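import Mathlib
import Cfsg.Agent.Lib.J2.S8Spec.Data

/-! generated by tools/cgt -/

set_option autoImplicit false
set_option maxRecDepth 100000
set_option Elab.async false

namespace CfsgLib.J2.S8Spec

open CfsgLib.Comput

theorem c1 : nodeOK 8 3 S8.W S8.L0.B leaf e0 ch1 [] (idTab 8 3) [18, 15, 13, 11, 8, 6] 2
    (.cons 0 [18, 15, 13, 11, 8] 3 (.cons 0 [18, 15, 13, 11] 1 (.cons 0 [18, 15, 13] 2 (.cons 0 [18, 15] 2 (.cons 0 [18] 1 (.cons 0 [] 0 F6 (.cons 15 [] 0 F6 .nil)) (.cons 13 [18] 1 (.cons 0 [] 0 F6 (.cons 17 [] 0 F6 .nil)) .nil)) (.cons 11 [18, 15] 2 (.cons 0 [18] 1 (.cons 0 [] 0 F6 (.cons 17 [] 0 F6 .nil)) (.cons 12 [18] 1 (.cons 0 [] 0 F6 (.cons 15 [] 0 F6 .nil)) .nil)) .nil)) (.cons 8 [15, 0x120d] 1 (.cons 0 [15] 1 (.cons 0 [] 0 F5 (.cons 13 [] 0 F5 (.cons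 12 [] 0 F5 .nil))) (.cons 11 [15] 1 (.cons 0 [] 0 F5 (.cons 13 [] 0 F5 (.cons 12 [] 0 F5 .nil))) (.cons 10 [] 0 F4 .nil))) .nil)) (.cons 6 [18, 15, 13, 11] 2 (.cons 0 [18, 15, 13] 2 (.cons 0 [18, 15] 2 (.cons 0 [18] 1 (.cons 0 [] 0 F6 (.cons 17 [] 0 F6 .nil)) (.cons 12 [18] 1 (.cons 0 [] 0 F6 (.cons 15 [] 0 F6 .nil)) .nil)) (.cons 10 [18, 15] 2 (.cons 0 [18] 1 (.cons 0 [] 0 F6 (.cons 15 [] 0 F6 .nil)) (.cons 13 [18] 1 (.cons 0 [] 0 F6 (.cons 17 [] 0 F6 .nil)) .nil)) .nil)) (.cons 8 [18, 15, 13] 2 (.cons 0 [18, 15] 2 (.cons 0 [18] 1 (.cons 0 [] 0 F6 (.cons 15 [] 0 F6 .nil)) (.cons 13 [18] 1 (.cons 0 [] 0 F6 (.cons 17 [] 0 F6 .nil)) .nil)) (.cons 11 [18, 15] 2 (.cons 0 [18] 1 (.cons 0 [] 0 F6 (.cons 17 [] 0 F6 .nil)) (.cons 12 [18] 1 (.cons 0 [] 0 F6 (.cons 15 [] 0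 F6 .nil)) .nil)) .nil)) .nil)) .nil)) (.cons 1 [18, 15, 13, 11, 8] 3 (.cons 0 [18, 15, 13, 11] 1 (.cons 0 [18, 15, 13] 2 (.cons 0 [18, 15] 2 (.cons 0 [18] 1 (.cons 0 [] 0 F6 (.cons 15 [] 0 F6 .nil)) (.cons 13 [18] 1 (.cons 0 [] 0 F6 (.cons 17 [] 0 F6 .nil)) .nil)) (.cons 11 [18, 15] 2 (.cons 0 [18] 1 (.cons 0 [] 0 F6 (.cons 17 [] 0 F6 .nil)) (.cons 12 [18] 1 (.cons 0 [] 0 F6 (.cons 15 [] 0 F6 .nil)) .nil)) .nil)) (.cons 8 [15, 0x120d] 1 (.cons 0 [15] 1 (.cons 0 [] 0 F5 (.cons 13 [] 0 F5 (.cons 12 [] 0 F5 .nil))) (.cons 11 [15] 1 (.cons 0 [] 0 F5 (.cons 13 [] 0 F5 (.cons 12 [] 0 F5 .nil))) (.cons 10 [] 0 F4 .nil))) .nil)) (.cons 6 [18, 15, 13, 11] 2 (.cons 0 [18, 15, 13] 2 (.cons 0 [18, 15] 2 (.cons 0 [18] 1 (.cons 0 [] 0 F6 (.cons 17 [] 0 F6 .nil)) (.cons 12 [18]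 1 (.cons 0 [] 0 F6 (.cons 15 [] 0 F6 .nil)) .nil)) (.cons 10 [18, 15] 2 (.cons 0 [18] 1 (.cons 0 [] 0 F6 (.cons 15 [] 0 F6 .nil)) (.cons 13 [18] 1 (.cons 0 [] 0 F6 (.cons 17 [] 0 F6 .nil)) .nil)) .nil)) (.cons 8 [18, 15, 13] 2 (.cons 0 [18, 15] 2 (.cons 0 [18] 1 (.cons 0 [] 0 F6 (.cons 15 [] 0 F6 .nil)) (.cons 13 [18] 1 (.cons 0 [] 0 F6 (.cons 17 [] 0 F6 .nil)) .nil)) (.cons 11 [18, 15] 2 (.cons 0 [18] 1 (.cons 0 [] 0 F6 (.cons 17 [] 0 F6 .nil)) (.cons 12 [18] 1 (.cons 0 [] 0 F6 (.cons 15 [] 0 F6 .nil)) .nil)) .nil)) .nil)) .nil)) .nil)) = true := by decide +kernel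

end CfsgLib.J2.S8Spec
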